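import Cfsg.Agent.Lib.InvChar.SporData.F2B.Data

set_option autoImplicit false
set_option maxRecDepth 100000

namespace CfsgLib.InvChar.Coset.F2B

theorem chk_rows6 : table.chkRows cert live fin 1500 9000 = true := by decide +kernel

theorem chk_rows7 : table.chkRows cert live fin 1500 10500 = true := by decide +kernel

theorem chk_rows8 : table.chkRows cert live fin 1500 12000 = true := by decide +kernel

end CfsgLib.InvChar.Coset.F2B
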